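import Groth.Agent.PullbackMod.Props
import Groth.Agent.PullbackMod.FibreRank
import Groth.Agent.TildePerf.Amp
import Groth.Agent.FPApproxLib.Step
import Groth.Agent.ProjBundleLib.TwistIso
import Groth.Agent.DCohLib.HDCoprod
import Groth.Agent.ModTensor.Flat
import Groth.Agent.S0938

/-!
# Flat quasi-coherent covers along affine open immersions
-/

set_option autoImplicit false
set_option backward.isDefEq.respectTransparency false
set_option linter.style.haveILetI false

universe u

open CategoryTheory CategoryTheory.Limits AlgebraicGeometry TopologicalSpace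

noncomputable section

namespace Groth.Agent.FlatCoverLib

open Groth.Agent.PullbackMod Groth.Agent.DCohLib

variable {X : Scheme.{u}}

theorem isQCoh_ker {M N : X.Modules} (p : M ⟶ N) [Epi p] (hM : Coh.IsQCoh M) (hN : Coh.IsQCoh N) :
    Coh.IsQCoh (kernel p) :=
  QCohLib.isQCoh_X₁ (S := ShortComplex.mk (kernel.ι p) p (kernel.condition p))
    (ShortComplex.ShortExact.mk' (ShortComplex.exact_kernel p) inferInstance inferInstance) hM hN

theorem isFlatAt_of_iso {M N : X.Modules} (e : M ≅ N) (x : X) (h : FlatMod.IsFlatAt M x) :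
    FlatMod.IsFlatAt N x := by
  haveI : Module.Flat (X.presheaf.stalk x) (M.presheaf.stalk x) := h
  exact Module.Flat.of_linearEquiv (M := M.presheaf.stalk x)
    (LinearEquiv.ofBijective (stalkLin e.hom x) ((isIso_iff_stalk e.hom).1 inferInstance x)).symm

/-- Flat at all points of an open gives flat sections on its affine opens. -/
theorem flat_sections_on (M : X.Modules) [Coh.IsQCoh M] {W : X.Opens} (hW : IsAffineOpen W)
    (h : ∀ x ∈ W, FlatMod.IsFlatAt M x) : Module.Flat Γ(X, W) Γ(M, W) := by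
  refine Module.flat_of_localized_maximal _ fun P _ => ?_
  let x : X := hW.fromSpec ⟨P, inferInstance⟩
  have hx : x ∈ W := by
    have : x ∈ Set.range hW.fromSpec := ⟨_, rfl⟩
    rwa [hW.range_fromSpec] at this
  have hP : hW.primeIdealOf ⟨x, hx⟩ = ⟨P, inferInstance⟩ :=
    hW.fromSpec.isOpenEmbedding.injective (hW.fromSpec_primeIdealOf ⟨x, hx⟩)
  letI := Module.compHom (M.presheaf.stalk x) (X.presheaf.germ W x hx).hom
  haveI : IsLocalizedModule P.primeCompl (FlatLocus.germL M W x hx) := by
    have := FlatLocus.isLocalizedModule_germL M hW x hx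
    rwa [hP] at this
  letI : Algebra Γ(X, W) (X.presheaf.stalk x) :=
    TopCat.Presheaf.algebra_section_stalk X.presheaf ⟨x, hx⟩
  haveI : IsLocalization P.primeCompl (X.presheaf.stalk x) := by
    have := hW.isLocalization_stalk ⟨x, hx⟩
    rwa [hP] at this
  haveI : IsScalarTower Γ(X, W) (X.presheaf.stalk x) (M.presheaf.stalk x) :=
    .of_algebraMap_smul fun _ _ => rfl
  haveI : Module.Flat (X.presheaf.stalk x) (M.presheaf.stalk x) := h x hx
  haveI : Module.Flat Γ(X, W) (X.presheaf.stalk x) := IsLocalization.flat _ P.primeCompl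
  haveI : Module.Flat Γ(X, W) (M.presheaf.stalk x) := Module.Flat.trans _ (X.presheaf.stalk x) _
  exact Module.Flat.of_linearEquiv
    (IsLocalizedModule.iso P.primeCompl (FlatLocus.germL M W x hx))

/-- Flat sections over an affine open give flat stalks. -/
theorem isFlatAt_of_sections (M : X.Modules) [Coh.IsQCoh M] {W : X.Opens} (hW : IsAffineOpen W)
    [Module.Flat Γ(X, W) Γ(M, W)] {x : X} (hx : x ∈ W) : FlatMod.IsFlatAt M x := by
  letI := Module.compHom (M.presheaf.stalk x) (X.presheaf.germ W x hx).hom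
  letI : Algebra Γ(X, W) (X.presheaf.stalk x) :=
    TopCat.Presheaf.algebra_section_stalk X.presheaf ⟨x, hx⟩
  haveI := hW.isLocalization_stalk ⟨x, hx⟩
  haveI := FlatLocus.isLocalizedModule_germL M hW x hx
  haveI : IsScalarTower Γ(X, W) (X.presheaf.stalk x) (M.presheaf.stalk x) :=
    .of_algebraMap_smul fun _ _ => rfl
  exact Module.Flat.of_isLocalizedModule (X.presheaf.stalk x)
    (hW.primeIdealOf ⟨x, hx⟩).asIdeal.primeCompl (FlatLocus.germL M W x hx)

/-- Push forward along an affine flat morphism preserves flatness. -/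
theorem isFlatAt_push {U : Scheme.{u}} (j : U ⟶ X) [IsAffineHom j] [Flat j] (K : U.Modules)
    [Coh.IsQCoh K] {H : X.Opens} (h : ∀ y ∈ j ⁻¹ᵁ H, FlatMod.IsFlatAt K y) {x : X} (hx : x ∈ H) :
    FlatMod.IsFlatAt ((Scheme.Modules.pushforward j).obj K) x := by
  obtain ⟨_, ⟨V : X.Opens, (hV : IsAffineOpen V), rfl⟩, hxV, hVH⟩ :=
    X.isBasis_affineOpens.exists_subset_of_mem_open hx H.2
  haveI : Coh.IsQCoh ((Scheme.Modules.pushforward j).obj K) := QCohLib.isQCoh_pushforward K j
  haveI : Module.Flat Γ(U, j ⁻¹ᵁ V) Γ(K, j ⁻¹ᵁ V) :=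
    flat_sections_on K (hV.preimage j) fun y hy => h y (hVH hy)
  letI : Algebra Γ(X, V) Γ(U, j ⁻¹ᵁ V) := (j.app V).hom.toAlgebra
  haveI : Module.Flat Γ(X, V) Γ(U, j ⁻¹ᵁ V) := by
    have := HasRingHomProperty.appLE @Flat j inferInstance ⟨V, hV⟩ ⟨j ⁻¹ᵁ V, hV.preimage j⟩ le_rfl
    rw [Scheme.Hom.appLE_eq_app] at this
    exact this
  letI : Module Γ(X, V) Γ(K, j ⁻¹ᵁ V) := Module.compHom _ (j.app V).hom
  haveI : IsScalarTower Γ(X, V) Γ(U, j ⁻¹ᵁ V) Γ(K, j ⁻¹ᵁ V) := .of_algebraMap_smul fun _ _ => rfl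
  have hflat : Module.Flat Γ(X, V) Γ(K, j ⁻¹ᵁ V) := Module.Flat.trans _ Γ(U, j ⁻¹ᵁ V) _
  haveI : Module.Flat Γ(X, V) Γ((Scheme.Modules.pushforward j).obj K, V) := hflat
  exact isFlatAt_of_sections _ hV hxV

/-- Push forward along an affine morphism keeps epimorphisms of quasi-coherent modules. -/
theorem epi_push {U : Scheme.{u}} (j : U ⟶ X) [IsAffineHom j] {M N : U.Modules} (hM : Coh.IsQCoh M)
    (hN : Coh.IsQCoh N) (g : M ⟶ N) [Epi g] : Epi ((Scheme.Modules.pushforward j).map g) := by
  refine (epi_iff_stalk _).2 fun z s => ?_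
  obtain ⟨W, hzW, s, rfl⟩ := TopCat.Presheaf.exists_germ_eq ((Scheme.Modules.pushforward j).obj N).presheaf s
  obtain ⟨_, ⟨V : X.Opens, (hV : IsAffineOpen V), rfl⟩, hzV, hVW⟩ :=
    X.isBasis_affineOpens.exists_subset_of_mem_open (show z ∈ W from hzW) W.2
  obtain ⟨r, hr⟩ := ProjBundleLib.surjective_app_of_epi hM hN g (hV.preimage j)
    (show Γ(N, j ⁻¹ᵁ V) from ((Scheme.Modules.pushforward j).obj N).presheaf.map (homOfLE (hVW : V ≤ W)).op s)
  refine ⟨((Scheme.Modules.pushforward j).obj M).presheaf.germ V z hzV r, ?_⟩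
  rw [stalkLin_germ]
  exact (congrArg (((Scheme.Modules.pushforward j).obj N).presheaf.germ V z hzV) hr).trans
    (TopCat.Presheaf.germ_res_apply ((Scheme.Modules.pushforward j).obj N).presheaf (homOfLE hVW) z hzV s)

/-- On an affine scheme every quasi-coherent module is a quotient of a flat one. -/
theorem exists_flat_epi_affine {U : Scheme.{u}} [IsAffine U] (G : U.Modules) [Coh.IsQCoh G] :
    ∃ (F : U.Modules) (p : F ⟶ G), Coh.IsQCoh F ∧ FlatMod.IsFlat F ∧ Epi p := by
  let f : Γ(G, ⊤) → U.Modules := fun _ => Coh.structureModule U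
  let p : ∐ f ⟶ G := Sigma.desc fun s => FactorOne.ofSection G s
  haveI hF : Coh.IsQCoh (∐ f) := isQCoh_sigma_modules f fun _ => CohBase.isQCoh_structureModule
  refine ⟨∐ f, p, hF, (isFlat_iff _).2 (ModTensor.isFlat_sigma U.sheaf f fun _ =>
    (⟨preservesFiniteLimits_of_natIso (ModTensor.tensorUnitRight U.sheaf).symm, inferInstance⟩ : ModSite.IsFlat (ModSite.unit U.sheaf))), ?_⟩
  have hW : IsAffineOpen (⊤ : U.Opens) := isAffineOpen_top U
  refine (epi_iff_stalk p).2 fun x => (stalk_criteria p hW x trivial).2.1.mpr fun q =>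
    ⟨1, by rw [U.basicOpen_of_isUnit isUnit_one]; trivial, (Sigma.ι f q).app ⊤ (1 : Γ(U, ⊤)), ?_⟩
  rw [one_smul]
  show S0938.secOf (Sigma.ι f q ≫ p) = q
  rw [Sigma.ι_desc, S0938.secOf_ofSection]

set_option maxHeartbeats 800000 in
/-- The inductive step: make flat over one more affine open. -/
theorem exists_step (U : X.Opens) (hU : IsAffineOpen U) [IsAffineHom U.ι] (M : X.Modules) [Coh.IsQCoh M]
    (H : X.Opens) (hM : ∀ x ∈ H, FlatMod.IsFlatAt M x) :
    ∃ (Q : X.Modules) (π : Q ⟶ M), Coh.IsQCoh Q ∧ Epi π ∧ ∀ x ∈ H ⊔ U, FlatMod.IsFlatAt Q x := by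
  haveI : IsAffine (U : Scheme.{u}) := hU
  let G := (Scheme.Modules.restrictFunctor U.ι).obj M
  haveI : Coh.IsQCoh G := (inferInstance : Coh.IsQCoh (M.restrict U.ι))
  obtain ⟨F, p, hF, hFf, hp⟩ := exists_flat_epi_affine G
  let P := Scheme.Modules.pushforward U.ι
  let η : M ⟶ P.obj G := (Scheme.Modules.restrictAdjunction U.ι).unit.app M
  haveI : Epi (P.map p) := epi_push U.ι hF inferInstance p
  let π : pullback η (P.map p) ⟶ M := pullback.fst η (P.map p)
  have hQ : Coh.IsQCoh (pullback η (P.map p)) := FPApproxLib.isQCoh_pullback' η (P.map p) inferInstance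
    (QCohLib.isQCoh_pushforward F U.ι) (QCohLib.isQCoh_pushforward G U.ι)
  haveI := hQ
  refine ⟨_, π, hQ, inferInstance, fun x hx => ?_⟩
  rcases (Opens.mem_sup.1 hx) with hxH | hxU
  · -- on `H`: extension of flat by flat
    let R := Scheme.Modules.restrictFunctor H.ι
    haveI : PreservesFiniteLimits R := preservesFiniteLimits_restrictFunctor _
    haveI : PreservesFiniteColimits R := preservesFiniteColimits_restrictFunctor _
    haveI : R.IsLeftAdjoint := (Scheme.Modules.restrictAdjunction H.ι).isLeftAdjoint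
    haveI : Coh.IsQCoh (kernel p) := isQCoh_ker p hF inferInstance
    haveI : Coh.IsQCoh (kernel π) := isQCoh_ker π hQ inferInstance
    let sq := IsPullback.of_hasPullback η (P.map p)
    haveI : IsIso (kernel.map (pullback.fst η (P.map p)) (P.map p) (pullback.snd η (P.map p)) η
        pullback.condition) := isIso_kernel_map_of_isPullback sq
    let e : kernel π ≅ P.obj (kernel p) :=
      asIso (kernel.map (pullback.fst η (P.map p)) (P.map p) (pullback.snd η (P.map p)) η
        pullback.condition) ≪≫ (PreservesKernel.iso P p).symm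
    have hK : ∀ y ∈ U.ι ⁻¹ᵁ H, FlatMod.IsFlatAt (kernel p) y := by
      intro y hy
      let V : (U : Scheme.{u}).Opens := U.ι ⁻¹ᵁ H
      let RV := Scheme.Modules.restrictFunctor V.ι
      haveI : PreservesFiniteLimits RV := preservesFiniteLimits_restrictFunctor _
      haveI : PreservesFiniteColimits RV := preservesFiniteColimits_restrictFunctor _
      haveI : RV.PreservesZeroMorphisms := by
        haveI : RV.IsLeftAdjoint := (Scheme.Modules.restrictAdjunction V.ι).isLeftAdjoint
        infer_instance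
      have hG : FlatMod.IsFlat (RV.obj G) := fun z => by
        have hz : FlatMod.IsFlatAt G z.1 :=
          isFlatAt_of_iso ((Scheme.Modules.restrictFunctorIsoPullback U.ι).app M).symm _
            (isFlatAt_pullback U.ι M z.1 (hM _ z.2))
        exact isFlatAt_of_iso ((Scheme.Modules.restrictFunctorIsoPullback V.ι).app G).symm _
          (isFlatAt_pullback V.ι G z hz)
      have hS : (ShortComplex.mk (kernel.ι p) p (kernel.condition p)).ShortExact :=
        ShortComplex.ShortExact.mk' (ShortComplex.exact_kernel p) inferInstance hp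
      have := ModTensor.isFlat_X₁ (O := (V : Scheme.{u}).sheaf)
        ((ShortComplex.mk (kernel.ι p) p (kernel.condition p)).map RV) (hS.map_of_exact RV)
        ((isFlat_iff _).1 (isFlat_restrict V.ι hFf)) ((isFlat_iff _).1 hG)
      exact TildePerf.isFlatAt_of_restrict V.ι _ ⟨y, hy⟩ ((isFlat_iff _).2 this)
    have hS : (ShortComplex.mk (kernel.ι π) π (kernel.condition π)).ShortExact :=
      ShortComplex.ShortExact.mk' (ShortComplex.exact_kernel π) inferInstance inferInstance
    have h1 : FlatMod.IsFlat (R.obj (kernel π)) := fun z =>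
      isFlatAt_of_iso ((Scheme.Modules.restrictFunctorIsoPullback H.ι).app _).symm _
        (isFlatAt_pullback H.ι _ z (isFlatAt_of_iso e.symm _ (isFlatAt_push U.ι (kernel p) hK z.2)))
    have h3 : FlatMod.IsFlat (R.obj M) := fun z =>
      isFlatAt_of_iso ((Scheme.Modules.restrictFunctorIsoPullback H.ι).app _).symm _
        (isFlatAt_pullback H.ι _ z (hM _ z.2))
    have h2 := ModTensor.isFlat_X₂ (O := (H : Scheme.{u}).sheaf)
      ((ShortComplex.mk (kernel.ι π) π (kernel.condition π)).map R) (hS.map_of_exact R)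
      ((isFlat_iff _).1 h1) ((isFlat_iff _).1 h3)
    exact TildePerf.isFlatAt_of_restrict H.ι _ ⟨x, hxH⟩ ((isFlat_iff _).2 h2)
  · -- on `U`: the flat module we started from
    let R := Scheme.Modules.restrictFunctor U.ι
    let adj := Scheme.Modules.restrictAdjunction U.ι
    haveI : IsIso (R.map η) := by
      have h := adj.left_triangle_components M
      exact IsIso.of_isIso_fac_right h
    haveI : IsIso (R.map (pullback.snd η (P.map p))) :=
      ((IsPullback.of_hasPullback η (P.map p)).map R).isIso_snd_of_isIso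
    let e : R.obj (pullback η (P.map p)) ≅ F :=
      asIso (R.map (pullback.snd η (P.map p))) ≪≫ asIso (adj.counit.app F)
    exact TildePerf.isFlatAt_of_restrict U.ι _ ⟨x, hxU⟩ (isFlat_congr e.symm hFf)

/-- The finite induction. -/
theorem exists_flat_cover (n : ℕ) (U : Fin n → X.Opens) (hU : ∀ i, IsAffineOpen (U i))
    (ha : ∀ i, IsAffineHom (U i).ι) (M : X.Modules) [Coh.IsQCoh M] :
    ∃ (Q : X.Modules) (π : Q ⟶ M), Coh.IsQCoh Q ∧ Epi π ∧ ∀ i, ∀ x ∈ U i, FlatMod.IsFlatAt Q x := by
  induction n generalizing M with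
  | zero => exact ⟨M, 𝟙 M, inferInstance, inferInstance, fun i => i.elim0⟩
  | succ n ih =>
    obtain ⟨Q, π, hQ, hπ, hfl⟩ := ih (fun i => U i.succ) (fun i => hU _) (fun i => ha _) M
    let H : X.Opens := ⨆ i : Fin n, U i.succ
    haveI := ha 0
    haveI := hQ
    obtain ⟨Q', π', hQ', hπ', hfl'⟩ := exists_step (U 0) (hU 0) Q H fun x hx => by
      obtain ⟨i, hi⟩ := Opens.mem_iSup.1 hx
      exact hfl i x hi
    refine ⟨Q', π' ≫ π, hQ', epi_comp _ _, fun i x hx => hfl' x ?_⟩
    induction i using Fin.cases with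
    | zero => exact Opens.mem_sup.2 (Or.inr hx)
    | succ i => exact Opens.mem_sup.2 (Or.inl (Opens.mem_iSup.2 ⟨i, hx⟩))

end Groth.Agent.FlatCoverLib
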